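import Groth.Agent.HomShEval.Basic
import Groth.Agent.WeakAssSch.Unit
import Groth.Agent.QCoh.FiniteType
import Mathlib.Algebra.Module.LocalizedModule.Basic
import Mathlib.Algebra.Module.FinitePresentation
import Mathlib.RingTheory.Localization.Module

/-!
# Quasi-coherence and coherence of the sheaf Hom
-/

universe u

open CategoryTheory Limits AlgebraicGeometry Opposite TopologicalSpace

noncomputable section

namespace Groth.Agent.HomShEval.QCoh

set_option linter.style.haveILetI false

open Groth.Agent.PullStalk.Sky Groth.Agent.QCoh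

variable {X : Scheme.{u}} (F G : X.Modules)

theorem germM_add (M : X.Modules) (U : X.Opens) (y : X) (hy : y ∈ U) (a b : Γ(M, U)) :
    germM M U y hy (a + b) = germM M U y hy a + germM M U y hy b :=
  map_add (M.presheaf.germ U y hy).hom a b

theorem germM_zero (M : X.Modules) (U : X.Opens) (y : X) (hy : y ∈ U) :
    germM M U y hy 0 = 0 :=
  map_zero (M.presheaf.germ U y hy).hom

/-- A section over a larger open evaluated at a section over a smaller one. -/
theorem exists_app {U V : X.Opens} (g : Γ(RefHull.homSh F G, U)) (h : V ≤ U) (m : Γ(F, V)) :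
    ∃ n : Γ(G, V), ∀ y : V,
      g.1 ⟨y.1, h y.2⟩ (germM F V y.1 y.2 m) = germM G V y.1 y.2 n := by
  choose W hW j n hn using RefHull.isLocSect_of_mem g V (homOfLE h) m
  obtain ⟨s, hs⟩ := exists_glue G (U := W) (fun i => (j i).le)
    (fun x hx => Opens.mem_iSup.mpr ⟨⟨x, hx⟩, hW ⟨x, hx⟩⟩) n (fun i k => by
      refine TopCat.Presheaf.section_ext ⟨_, G.isSheaf⟩ _ _ _ fun y hy => ?_
      refine (G.presheaf.germ_res_apply _ y hy _).trans (Eq.trans ?_ (G.presheaf.germ_res_apply _ y hy _).symm)
      exact (hn i ⟨y, hy.1⟩).symm.trans (hn k ⟨y, hy.2⟩))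
  refine ⟨s, fun y => ?_⟩
  have h1 := hn y ⟨y.1, hW y⟩
  dsimp only at h1
  refine h1.trans ?_
  rw [← hs y]
  exact G.presheaf.germ_res_apply _ _ _ _

/-- The value of a section of the sheaf Hom at a section. -/
def app {U V : X.Opens} (g : Γ(RefHull.homSh F G, U)) (h : V ≤ U) (m : Γ(F, V)) : Γ(G, V) :=
  (exists_app F G g h m).choose

theorem germ_app {U V : X.Opens} (g : Γ(RefHull.homSh F G, U)) (h : V ≤ U) (m : Γ(F, V))
    (y : X) (hy : y ∈ V) :
    germM G V y hy (app F G g h m) = g.1 ⟨y, h hy⟩ (germM F V y hy m) :=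
  ((exists_app F G g h m).choose_spec ⟨y, hy⟩).symm

/-- A section is determined by its germs. -/
theorem ext_germ {V : X.Opens} (s t : Γ(G, V))
    (h : ∀ (y : X) (hy : y ∈ V), germM G V y hy s = germM G V y hy t) : s = t :=
  TopCat.Presheaf.section_ext ⟨_, G.isSheaf⟩ _ _ _ h

variable {U : X.Opens}

/-- The germs of generators of the sections over an affine open span the stalks. -/
theorem span_germ (hU : IsAffineOpen U) [F.IsQuasicoherent] {ι : Type*} {s : ι → Γ(F, U)}
    (hs : Submodule.span Γ(X, U) (Set.range s) = ⊤) {y : X} (hy : y ∈ U) :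
    Submodule.span (X.presheaf.stalk y) (Set.range fun i => germM F U y hy (s i)) = ⊤ := by
  set T := Submodule.span (X.presheaf.stalk y) (Set.range fun i => germM F U y hy (s i))
  have h1 : ∀ m : Γ(F, U), germM F U y hy m ∈ T := by
    intro m
    have hm : m ∈ Submodule.span Γ(X, U) (Set.range s) := hs ▸ Submodule.mem_top
    induction hm using Submodule.span_induction with
    | mem z hz =>
      obtain ⟨i, rfl⟩ := hz
      exact Submodule.subset_span ⟨i, rfl⟩
    | zero => rw [germM_zero]; exact T.zero_mem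
    | add a b _ _ ha hb => rw [germM_add]; exact T.add_mem ha hb
    | smul r a _ ha => rw [germM_smul]; exact T.smul_mem _ ha
  rw [eq_top_iff]
  intro t _
  letI := Props.QStalk.moduleSections F hy
  haveI := Props.QStalk.isLocalizedModule_germLin F hy hU
  obtain ⟨⟨q, d⟩, hd⟩ := IsLocalizedModule.surj (hU.primeIdealOf ⟨y, hy⟩).asIdeal.primeCompl
    (Props.QStalk.germLin F hy) t
  letI := X.presheaf.algebra_section_stalk ⟨y, hy⟩
  haveI : IsLocalization.AtPrime (X.presheaf.stalk y) (hU.primeIdealOf ⟨y, hy⟩).asIdeal :=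
    hU.isLocalization_stalk ⟨y, hy⟩
  have hu : IsUnit (X.presheaf.germ U y hy (d : Γ(X, U))) :=
    IsLocalization.map_units (X.presheaf.stalk y) d
  refine (T.smul_mem_iff_of_isUnit hu).mp ?_
  have : X.presheaf.germ U y hy (d : Γ(X, U)) • t = germM F U y hy q := hd
  rw [this]
  exact h1 q

/-- Sections of the sheaf Hom agreeing on generators are equal. -/
theorem ext_gen (hU : IsAffineOpen U) [F.IsQuasicoherent] {ι : Type*} {s : ι → Γ(F, U)}
    (hs : Submodule.span Γ(X, U) (Set.range s) = ⊤) {V : X.Opens} (hV : V ≤ U)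
    (g g' : Γ(RefHull.homSh F G, V))
    (h : ∀ (y : X) (hy : y ∈ V) (i : ι),
      g.1 ⟨y, hy⟩ (germM F U y (hV hy) (s i)) = g'.1 ⟨y, hy⟩ (germM F U y (hV hy) (s i))) :
    g = g' :=
  Subtype.ext <| funext fun ⟨y, hy⟩ => LinearMap.ext_on (span_germ F hU hs (hV hy)) <| by
    rintro _ ⟨i, rfl⟩
    exact h y hy i

theorem exists_ofLinear (hU : IsAffineOpen U) [F.IsQuasicoherent] [G.IsQuasicoherent]
    (f : Γ(F, U) →ₗ[Γ(X, U)] Γ(G, U)) :
    ∃ g : Γ(RefHull.homSh F G, U), ∀ (y : X) (hy : y ∈ U) (m : Γ(F, U)),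
      g.1 ⟨y, hy⟩ (germM F U y hy m) = germM G U y hy (f m) := by
  have key : ∀ y : U, ∃ φ : RefHull.StalkHom F G y.1, ∀ m : Γ(F, U),
      φ (germM F U y.1 y.2 m) = germM G U y.1 y.2 (f m) := by
    rintro ⟨y, hy⟩
    letI := Props.QStalk.moduleSections F hy
    letI := Props.QStalk.moduleSections G hy
    haveI := Props.QStalk.isLocalizedModule_germLin F hy hU
    haveI := Props.QStalk.isLocalizedModule_germLin G hy hU
    letI := X.presheaf.algebra_section_stalk ⟨y, hy⟩
    haveI : IsLocalization.AtPrime (X.presheaf.stalk y) (hU.primeIdealOf ⟨y, hy⟩).asIdeal :=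
      hU.isLocalization_stalk ⟨y, hy⟩
    haveI : IsScalarTower Γ(X, U) (X.presheaf.stalk y) (F.presheaf.stalk y) :=
      IsScalarTower.of_algebraMap_smul fun _ _ => rfl
    haveI : IsScalarTower Γ(X, U) (X.presheaf.stalk y) (G.presheaf.stalk y) :=
      IsScalarTower.of_algebraMap_smul fun _ _ => rfl
    let S := (hU.primeIdealOf ⟨y, hy⟩).asIdeal.primeCompl
    refine ⟨LinearMap.extendScalarsOfIsLocalization S (X.presheaf.stalk y)
      (IsLocalizedModule.map S (Props.QStalk.germLin F hy) (Props.QStalk.germLin G hy) f), fun m => ?_⟩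
    rw [LinearMap.extendScalarsOfIsLocalization_apply']
    exact IsLocalizedModule.map_apply S (Props.QStalk.germLin F hy) (Props.QStalk.germLin G hy) f m
  choose φ hφ using key
  refine ⟨⟨φ, fun V i q y => ?_⟩, fun y hy m => hφ ⟨y, hy⟩ m⟩
  obtain ⟨a, haV, hya⟩ := hU.exists_basicOpen_le y (i.le y.2)
  obtain ⟨k, q', hq'⟩ := (isLocalizingAt F hU a).surj (res F haV q)
  have hu : IsUnit (rres (X.basicOpen_le a) (a ^ k)) := by
    rw [map_pow]
    exact (RingedSpace.isUnit_res_basicOpen _ a).pow k
  obtain ⟨v, hv⟩ := hu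
  refine ⟨X.basicOpen a, hya, homOfLE haV,
    (↑v⁻¹ : Γ(X, X.basicOpen a)) • res G (X.basicOpen_le a) (f q'), fun z => ?_⟩
  have e1 : germM F U z.1 (X.basicOpen_le a z.2) q' =
      X.presheaf.germ _ z.1 z.2 (v : Γ(X, X.basicOpen a)) • germM F V z.1 (haV z.2) q := by
    have a1 : germM F (X.basicOpen a) z.1 z.2 (res F haV q) = germM F V z.1 (haV z.2) q :=
      F.presheaf.germ_res_apply _ _ _ _
    have a2 : germM F (X.basicOpen a) z.1 z.2 (res F (X.basicOpen_le a) q') =
        germM F U z.1 (X.basicOpen_le a z.2) q' :=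
      F.presheaf.germ_res_apply _ _ _ _
    rw [← a1, ← a2, hq', hv, map_pow]
    exact germM_smul F _ z.1 z.2 _ _
  have e2 : φ ⟨z.1, X.basicOpen_le a z.2⟩ (germM F V z.1 (haV z.2) q) =
      X.presheaf.germ _ z.1 z.2 (↑v⁻¹ : Γ(X, X.basicOpen a)) •
        germM G U z.1 (X.basicOpen_le a z.2) (f q') := by
    rw [← hφ ⟨z.1, X.basicOpen_le a z.2⟩ q', e1, map_smul, smul_smul, ← map_mul, v.inv_mul,
      map_one, one_smul]
  refine e2.trans (Eq.trans ?_ (germM_smul G _ z.1 z.2 _ _).symm)
  exact congrArg _ (G.presheaf.germ_res_apply _ _ _ _).symm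

theorem isLocalizingAt_homSh (hU : IsAffineOpen U) [F.IsQuasicoherent] [G.IsQuasicoherent]
    [Module.FinitePresentation Γ(X, U) Γ(F, U)] (a : Γ(X, U)) :
    IsLocalizingAt (RefHull.homSh F G) a := by
  obtain ⟨n, s, hs⟩ := Module.Finite.exists_fin (R := Γ(X, U)) (M := Γ(F, U))
  have hle := X.basicOpen_le a
  refine ⟨fun g => ?_, fun g hg => ?_⟩
  · let ψ : Γ(F, U) →ₗ[Γ(X, U)] Γ(G, X.basicOpen a) :=
      { toFun := fun m => app F G g le_rfl (res F hle m)
        map_add' := fun m m' => ext_germ G _ _ fun y hy => by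
          rw [germM_add, germ_app, germ_app, germ_app, map_add, germM_add, map_add]
        map_smul' := fun r m => ext_germ G _ _ fun y hy => by
          change _ = germM G _ y hy (rres hle r • app F G g le_rfl (res F hle m))
          rw [germ_app, res_smul, germM_smul, germM_smul, germ_app, map_smul] }
    haveI := Fact.mk hU
    obtain ⟨f, ⟨_, k, rfl⟩, hf⟩ := Module.FinitePresentation.exists_lift_of_isLocalizedModule
      (Submonoid.powers a) (Props.QStalk.resLin G a) ψ
    obtain ⟨t, ht⟩ := exists_ofLinear F G hU f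
    refine ⟨k, t, ext_gen F G hU hs hle _ _ fun y hy i => ?_⟩
    have h1 : res G hle (f (s i)) = rres hle (a ^ k) • app F G g le_rfl (res F hle (s i)) :=
      LinearMap.congr_fun hf (s i)
    change t.1 ⟨y, hle hy⟩ (germM F U y (hle hy) (s i)) =
      X.presheaf.germ _ y hy ((rres hle a) ^ k) • g.1 ⟨y, hy⟩ (germM F U y (hle hy) (s i))
    rw [ht, ← map_pow]
    have h2 : germM F (X.basicOpen a) y hy (res F hle (s i)) = germM F U y (hle hy) (s i) :=
      F.presheaf.germ_res_apply _ _ _ _
    have h3 : germM G (X.basicOpen a) y hy (res G hle (f (s i))) = germM G U y (hle hy) (f (s i)) :=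
      G.presheaf.germ_res_apply _ _ _ _
    rw [← h3, h1, germM_smul, germ_app, h2]
  · have h0 : ∀ i, ∃ k : ℕ, a ^ k • app F G g le_rfl (s i) = 0 := fun i => by
      refine (isLocalizingAt G hU a).eq_zero _ (ext_germ G _ _ fun y hy => ?_)
      refine (G.presheaf.germ_res_apply _ _ _ _).trans ?_
      change germM G U y (hle hy) _ = _
      rw [germ_app, germM_zero]
      have := congrFun (congrArg Subtype.val hg) ⟨y, hy⟩
      exact LinearMap.congr_fun this _
    choose k hk using h0
    refine ⟨Finset.univ.sup k, ext_gen F G hU hs le_rfl _ _ fun y hy i => ?_⟩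
    have hd := Nat.sub_add_cancel (Finset.le_sup (f := k) (Finset.mem_univ i))
    have : a ^ (Finset.univ.sup k) • app F G g le_rfl (s i) = 0 := by
      rw [← hd, pow_add, mul_smul, hk, smul_zero]
    have e := congrArg (germM G U y hy) this
    rw [germM_smul, germM_zero, germ_app] at e
    exact e

/-- The sheaf Hom out of a module of finite presentation is quasi-coherent. -/
theorem isQuasicoherent_homSh (hF : CohB1.IsFP F) [G.IsQuasicoherent] :
    (RefHull.homSh F G).IsQuasicoherent := by
  haveI : SheafOfModules.IsFinitePresentation.{u} F := hF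
  haveI : F.IsQuasicoherent := by
    obtain ⟨σ, hσ⟩ := SheafOfModules.IsFinitePresentation.exists_quasicoherentData.{u} F
    exact σ.isQuasicoherent
  refine (isQuasicoherent_iff_forall_isAffineOpen _).mpr fun U hU a => ?_
  haveI := Props.QFP.finitePresentation_sections_of_isFP F hU
  exact isLocalizingAt_homSh F G hU a

theorem isFP_of_isCoh [IsLocallyNoetherian X] (hF : Coh.IsCoh F) : CohB1.IsFP F := by
  haveI := hF.1
  haveI := hF.2
  refine (Props.QFP.isFP_iff F).mpr fun U hU => ?_
  haveI : IsNoetherianRing Γ(X, U) := IsLocallyNoetherian.component_noetherian ⟨U, hU⟩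
  haveI := Groth.Agent.QCoh.finite_sections_of_isFiniteType F hU
  exact Module.finitePresentation_of_finite _ _

/-- The sheaf Hom of two coherent modules is coherent. -/
theorem isCoh_homSh [IsLocallyNoetherian X] (hF : Coh.IsCoh F) (hG : Coh.IsCoh G) :
    Coh.IsCoh (RefHull.homSh F G) := by
  haveI := hG.1
  haveI := hF.1
  haveI := hF.2
  haveI := hG.2
  haveI := isQuasicoherent_homSh F G (isFP_of_isCoh F hF)
  refine ⟨this, (isFiniteType_iff _).mpr fun U hU => ?_⟩
  haveI : IsNoetherianRing Γ(X, U) := IsLocallyNoetherian.component_noetherian ⟨U, hU⟩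
  haveI := Groth.Agent.QCoh.finite_sections_of_isFiniteType F hU
  haveI := Groth.Agent.QCoh.finite_sections_of_isFiniteType G hU
  obtain ⟨n, s, hs⟩ := Module.Finite.exists_fin (R := Γ(X, U)) (M := Γ(F, U))
  let ev : Γ(RefHull.homSh F G, U) →ₗ[Γ(X, U)] Fin n → Γ(G, U) :=
    { toFun := fun g i => app F G g le_rfl (s i)
      map_add' := fun g g' => funext fun i => ext_germ G _ _ fun y hy => by
        rw [Pi.add_apply, germM_add, germ_app, germ_app, germ_app]
        rfl
      map_smul' := fun r g => funext fun i => ext_germ G _ _ fun y hy => by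
        rw [Pi.smul_apply, germM_smul, germ_app, germ_app]
        rfl }
  refine Module.Finite.of_injective ev fun g g' h => ext_gen F G hU hs le_rfl g g' fun y hy i => ?_
  have := congrArg (germM G U y hy) (congrFun h i)
  dsimp only [ev, LinearMap.coe_mk, AddHom.coe_mk] at this
  rwa [germ_app, germ_app] at this

end Groth.Agent.HomShEval.QCoh

end
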