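import Groth.Agent.HomShEval.QCoh
import Groth.Agent.FDesc.QuasiFlat
import Groth.Agent.Omega.Stalks
import Mathlib.LinearAlgebra.Dual.Defs

/-!
# Reflexivity of a coherent module is reflexivity of its stalks
-/

set_option linter.style.haveILetI false

universe u

open CategoryTheory Limits AlgebraicGeometry Opposite TopologicalSpace

noncomputable section

namespace Groth.Agent.HomShEval.Reflexive

open Groth.Agent.PullStalk.Sky Groth.Agent.QCoh

variable {X : Scheme.{u}}

theorem isCoh_structureModule (X : Scheme.{u}) : Coh.IsCoh (Coh.structureModule X) := by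
  haveI := WeakAssSch.isQuasicoherent_unit X
  refine ⟨this, isFiniteType_of_forall_exists _ fun x => ?_⟩
  obtain ⟨U, hU, hxU, -⟩ := exists_isAffineOpen_mem_and_subset (Opens.mem_top x)
  exact ⟨U, hU, hxU, Module.Finite.self Γ(X, U)⟩

/-- The germ of `1`. -/
def oneGerm (x : X) : (Coh.structureModule X).presheaf.stalk x :=
  IdealSh.GenericPts.germU (U := ⊤) x (Opens.mem_top x) 1

theorem smul_oneGerm_eq_zero_iff (x : X) (r : X.presheaf.stalk x) :
    r • oneGerm x = 0 ↔ r = 0 := by
  rw [oneGerm, IdealSh.GenericPts.smul_germU_eq_zero_iff, map_one, mul_one]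

/-- The local ring is the stalk of the structure module. -/
def structureStalkEquiv (x : X) :
    X.presheaf.stalk x ≃ₗ[X.presheaf.stalk x] (Coh.structureModule X).presheaf.stalk x :=
  LinearEquiv.ofBijective (LinearMap.toSpanSingleton (X.presheaf.stalk x) _ (oneGerm x))
    ⟨by
      rw [← LinearMap.ker_eq_bot, eq_bot_iff]
      exact fun r hr => (Submodule.mem_bot _).mpr ((smul_oneGerm_eq_zero_iff x r).mp hr),
    fun t => by
      obtain ⟨W, hxW, s, rfl⟩ := exists_germM_eq _ x t
      refine ⟨X.presheaf.germ W x hxW s, ?_⟩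
      have h1 : germM (Coh.structureModule X) W x hxW
          ((Coh.structureModule X).presheaf.map (homOfLE (le_top : W ≤ ⊤)).op
            (show Γ(Coh.structureModule X, ⊤) from (1 : Γ(X, ⊤)))) = oneGerm x :=
        (Coh.structureModule X).presheaf.germ_res_apply _ _ _ _
      refine (congrArg (X.presheaf.germ W x hxW s • ·) h1.symm).trans
        ((germM_smul (Coh.structureModule X) W x hxW s _).symm.trans (congrArg _ ?_))
      change (show Γ(X, W) from s) * X.presheaf.map _ (1 : Γ(X, ⊤)) = (show Γ(X, W) from s)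
      exact (congrArg _ (map_one _)).trans (mul_one _)⟩

theorem isFT_of_isFP (M : X.Modules) (hM : CohB1.IsFP M) : CohB1.IsFT M := by
  haveI : SheafOfModules.IsFinitePresentation.{u} M := hM
  obtain ⟨σ, hσ⟩ := SheafOfModules.IsFinitePresentation.exists_quasicoherentData.{u} M
  exact SheafOfModules.IsFiniteType.mk.{u} ⟨σ.localGeneratorsData,
    SheafOfModules.LocalGeneratorsData.IsFiniteType.mk.{u} fun i => (hσ.isFinite_presentation i).isFiniteType_generators⟩

variable (F : X.Modules)

theorem stalkMap_bidualMap (x : X) (v : F.presheaf.stalk x) :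
    RefHull.evalStalk (RefHull.dual F) (Coh.structureModule X) x
      (RefHull.stalkMapₗ (RefHull.bidualMap F) x v) = RefHull.bidualAt F x v := by
  obtain ⟨U, hxU, m, rfl⟩ := exists_germM_eq F x v
  rw [RefHull.stalkMapₗ_germ]
  refine (RefHull.evalStalk_germ _ _ x hxU _).trans ?_
  exact RefHull.bidualMap_app_apply F m ⟨x, hxU⟩

/-- The stalk of a dual, as the dual of the stalk. -/
theorem bidualAt_bijective_iff (hF : CohB1.IsFP F) (x : X) :
    Function.Bijective (RefHull.bidualAt F x) ↔ RefHull.IsReflexiveAt F x := by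
  let e := structureStalkEquiv x
  let ε : (RefHull.dual F).presheaf.stalk x ≃ₗ[X.presheaf.stalk x]
      RefHull.StalkHom F (Coh.structureModule X) x :=
    LinearEquiv.ofBijective (RefHull.evalStalk F (Coh.structureModule X) x)
      ⟨evalStalk_injective F _ (isFT_of_isFP F hF) x,
      evalStalk_surjective F _ hF x⟩
  let ε' : Module.Dual (X.presheaf.stalk x) (F.presheaf.stalk x) ≃ₗ[X.presheaf.stalk x]
      (RefHull.dual F).presheaf.stalk x :=
    (LinearEquiv.congrRight e).trans ε.symm
  let Ψ : Module.Dual (X.presheaf.stalk x) (Module.Dual (X.presheaf.stalk x) (F.presheaf.stalk x)) ≃ₗ[X.presheaf.stalk x]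
      RefHull.StalkHom (RefHull.dual F) (Coh.structureModule X) x := LinearEquiv.arrowCongr ε' e
  have key : ⇑(RefHull.bidualAt F x) = ⇑Ψ ∘ ⇑(Module.Dual.eval (X.presheaf.stalk x) (F.presheaf.stalk x)) := by
    funext v
    refine LinearMap.ext fun θ => ?_
    simp only [RefHull.bidualAt_apply, Function.comp_apply, Ψ, ε', LinearEquiv.arrowCongr_apply, LinearEquiv.congrRight,
      LinearEquiv.trans_symm, LinearEquiv.trans_apply, LinearEquiv.symm_symm, Module.Dual.eval_apply,
      LinearEquiv.arrowCongr_symm_apply, LinearEquiv.refl_apply,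
      LinearEquiv.apply_symm_apply]
    rfl
  rw [key, Function.Bijective.of_comp_iff' Ψ.bijective]
  exact ⟨fun h => ⟨h⟩, fun h => h.1⟩

theorem bijective_stalkMap_bidualMap_iff [IsLocallyNoetherian X] (hF : Coh.IsCoh F) (x : X) :
    Function.Bijective (RefHull.stalkMapₗ (RefHull.bidualMap F) x) ↔ RefHull.IsReflexiveAt F x := by
  have hFP := QCoh.isFP_of_isCoh F hF
  have hD := QCoh.isFP_of_isCoh (RefHull.dual F)
    (QCoh.isCoh_homSh F _ hF (isCoh_structureModule X))
  have hev : Function.Bijective (RefHull.evalStalk (RefHull.dual F) (Coh.structureModule X) x) :=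
    ⟨evalStalk_injective _ _ (isFT_of_isFP _ hD) x,
      evalStalk_surjective _ _ hD x⟩
  rw [← bidualAt_bijective_iff F hFP x, ← hev.of_comp_iff' ]
  exact Iff.of_eq (congrArg Function.Bijective (funext fun v => stalkMap_bidualMap F x v))

/-- `F` is reflexive iff all its stalks are. -/
theorem isReflexive_iff [IsLocallyNoetherian X] (hF : Coh.IsCoh F) :
    RefHull.IsReflexive F ↔ ∀ x : X, RefHull.IsReflexiveAt F x := by
  constructor
  · intro h x
    rw [← bijective_stalkMap_bidualMap_iff F hF x]
    haveI : IsIso (RefHull.bidualMap F) := h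
    change Function.Bijective (PullStalk.Exact.stalkLin (RefHull.bidualMap F) x)
    exact ⟨Omega.Stalks.stalkLin_injective_of_mono _ x, PullStalk.Exact.stalk_surjective _ x⟩
  · exact fun h => Omega.Stalks.isIso_of_stalk fun x =>
      (bijective_stalkMap_bidualMap_iff F hF x).mpr (h x)

/-- For quasi-coherent modules, bijectivity on stalks passes to generalisations. -/
theorem bijective_stalkLin_of_specializes {M N : X.Modules} [M.IsQuasicoherent] [N.IsQuasicoherent]
    (φ : M ⟶ N) {x c : X} (hxc : x ⤳ c)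
    (h : Function.Bijective (PullStalk.Exact.stalkLin φ c)) :
    Function.Bijective (PullStalk.Exact.stalkLin φ x) := by
  obtain ⟨U, hU, hcU, -⟩ := exists_isAffineOpen_mem_and_subset (Opens.mem_top c)
  have hxU : x ∈ U := hxc.mem_open U.2 hcU
  letI := X.presheaf.algebra_section_stalk ⟨x, hxU⟩
  haveI : IsLocalization.AtPrime (X.presheaf.stalk x) (hU.primeIdealOf ⟨x, hxU⟩).asIdeal :=
    hU.isLocalization_stalk ⟨x, hxU⟩
  letI := X.presheaf.algebra_section_stalk ⟨c, hcU⟩
  haveI : IsLocalization.AtPrime (X.presheaf.stalk c) (hU.primeIdealOf ⟨c, hcU⟩).asIdeal :=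
    hU.isLocalization_stalk ⟨c, hcU⟩
  let Sx := (hU.primeIdealOf ⟨x, hxU⟩).asIdeal.primeCompl
  let Sc := (hU.primeIdealOf ⟨c, hcU⟩).asIdeal.primeCompl
  letI := Props.QStalk.moduleSections M hxU
  letI := Props.QStalk.moduleSections N hxU
  letI := Props.QStalk.moduleSections M hcU
  letI := Props.QStalk.moduleSections N hcU
  haveI := Props.QStalk.isLocalizedModule_germLin M hxU hU
  haveI := Props.QStalk.isLocalizedModule_germLin N hxU hU
  haveI := Props.QStalk.isLocalizedModule_germLin M hcU hU
  haveI := Props.QStalk.isLocalizedModule_germLin N hcU hU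
  have hS : ∀ d : Sc, IsUnit (X.presheaf.germ U x hxU (d : Γ(X, U))) := by
    intro d
    have hu : IsUnit (X.presheaf.germ U c hcU (d : Γ(X, U))) :=
      IsLocalization.map_units (X.presheaf.stalk c) d
    have := hu.map (X.presheaf.stalkSpecializes hxc).hom
    rwa [← ConcreteCategory.comp_apply, X.presheaf.germ_stalkSpecializes] at this
  have hSx : ∀ d : Sx, IsUnit (X.presheaf.germ U x hxU (d : Γ(X, U))) := by
    intro d
    letI := X.presheaf.algebra_section_stalk ⟨x, hxU⟩
    exact IsLocalization.map_units (X.presheaf.stalk x) d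
  refine ⟨?_, fun t => ?_⟩
  · rw [injective_iff_map_eq_zero]
    intro t ht
    obtain ⟨⟨m, s⟩, hs⟩ := IsLocalizedModule.surj Sx (Props.QStalk.germLin M hxU) t
    have h1 : X.presheaf.germ U x hxU (s : Γ(X, U)) • t = germM M U x hxU m := hs
    have h2 : germM N U x hxU (φ.app U m) = 0 := by
      rw [← PullStalk.Exact.stalkLin_germ, ← h1, map_smul, ht, smul_zero]
    obtain ⟨r, hr⟩ := (IsLocalizedModule.eq_zero_iff Sx (Props.QStalk.germLin N hxU)).mp h2
    rw [Submonoid.smul_def] at hr
    have h3 : germM M U c hcU ((r : Γ(X, U)) • m) = 0 := by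
      refine h.1 ?_
      rw [map_zero, PullStalk.Exact.stalkLin_germ, Scheme.Modules.Hom.app_smul, hr]
      exact map_zero _
    obtain ⟨d, hd⟩ := (IsLocalizedModule.eq_zero_iff Sc (Props.QStalk.germLin M hcU)).mp h3
    rw [Submonoid.smul_def] at hd
    have h4 := congrArg (germM M U x hxU) hd
    rw [germM_smul, germM_smul, QCoh.germM_zero, ← h1, (hS d).smul_eq_zero,
      (hSx r).smul_eq_zero,
      (hSx s).smul_eq_zero] at h4
    exact h4
  · obtain ⟨⟨n, s⟩, hs⟩ := IsLocalizedModule.surj Sx (Props.QStalk.germLin N hxU) t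
    have h1 : X.presheaf.germ U x hxU (s : Γ(X, U)) • t = germM N U x hxU n := hs
    obtain ⟨q, hq⟩ := h.2 (germM N U c hcU n)
    obtain ⟨⟨m, d⟩, hd⟩ := IsLocalizedModule.surj Sc (Props.QStalk.germLin M hcU) q
    have hd' : X.presheaf.germ U c hcU (d : Γ(X, U)) • q = germM M U c hcU m := hd
    have h2 : germM N U c hcU (φ.app U m) = germM N U c hcU ((d : Γ(X, U)) • n) := by
      rw [← PullStalk.Exact.stalkLin_germ, ← hd', map_smul, hq, germM_smul]
    obtain ⟨r, hr⟩ := IsLocalizedModule.exists_of_eq (S := Sc) (f := Props.QStalk.germLin N hcU) h2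
    have h4 := congrArg (germM N U x hxU) hr
    change germM N U x hxU ((r : Γ(X, U)) • φ.app U m) =
      germM N U x hxU ((r : Γ(X, U)) • (d : Γ(X, U)) • n) at h4
    rw [germM_smul, germM_smul, (hS r).smul_left_cancel, germM_smul, ← h1, smul_smul] at h4
    obtain ⟨v, hv⟩ := (hS d).mul (hSx s)
    refine ⟨(↑v⁻¹ : X.presheaf.stalk x) • germM M U x hxU m, ?_⟩
    rw [map_smul, PullStalk.Exact.stalkLin_germ, h4]
    change (↑v⁻¹ : X.presheaf.stalk x) • (_ : X.presheaf.stalk x) • t = t
    rw [show X.presheaf.germ U x hxU (d : Γ(X, U)) * X.presheaf.germ U x hxU (s : Γ(X, U)) =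
      (v : X.presheaf.stalk x) from hv.symm, smul_smul, v.inv_mul, one_smul]

theorem isReflexiveAt_of_specializes [IsLocallyNoetherian X] (hF : Coh.IsCoh F) {x c : X}
    (hxc : x ⤳ c) (h : RefHull.IsReflexiveAt F c) : RefHull.IsReflexiveAt F x := by
  rw [← bijective_stalkMap_bidualMap_iff F hF] at h ⊢
  haveI := hF.1
  have hD := QCoh.isCoh_homSh F _ hF (isCoh_structureModule X)
  haveI := (QCoh.isCoh_homSh (RefHull.dual F) _ hD (isCoh_structureModule X)).1
  exact bijective_stalkLin_of_specializes (RefHull.bidualMap F) hxc h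

end Groth.Agent.HomShEval.Reflexive

end
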