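import Groth.Prelude.Def_RefHull
import Groth.Prelude.Def_CohB1
import Groth.Agent.PullStalk.Sky
import Groth.Agent.QCoh.FiniteType
import Groth.Agent.Props.QFP
import Groth.Agent.Props.QStalk
import Mathlib.LinearAlgebra.Finsupp.LinearCombination

/-!
# Evaluation of the sheaf Hom at a point
-/

universe u

open CategoryTheory Limits AlgebraicGeometry Opposite TopologicalSpace

noncomputable section

namespace Groth.Agent.HomShEval

open Groth.Agent.PullStalk.Sky Groth.Agent.QCoh

variable {X : Scheme.{u}}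

/-- Germs of generating sections over an open span the stalks there. -/
theorem span_germ_over (M : X.Modules) (U : X.Opens) (σ : (M.over U).GeneratingSections)
    {y : X} (hy : y ∈ U) :
    Submodule.span (X.presheaf.stalk y)
      (Set.range fun i : σ.I => germM M U y hy ((σ.s i).1 (op (Over.mk (𝟙 U))))) = ⊤ := by
  set T := Submodule.span (X.presheaf.stalk y)
    (Set.range fun i : σ.I => germM M U y hy ((σ.s i).1 (op (Over.mk (𝟙 U)))))
  let ψ : M ⟶ sky y (M.presheaf.stalk y ⧸ T) := toSky T.mkQ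
  let ψ' := SheafOfModules.Hom.over ψ U
  have h0 : ψ' = 0 := by
    rw [← cancel_epi σ.π, comp_zero, SheafOfModules.GeneratingSections.π,
      SheafOfModules.freeHomEquiv_symm_comp]
    refine ((SheafOfModules.freeHomEquiv _).symm_apply_eq).mpr ?_
    funext i
    refine Subtype.ext (funext fun W => ?_)
    funext h
    change T.mkQ (germM M W.unop.left y h.down ((σ.s i).1 W)) = _
    have hs := (σ.s i).2 (Over.homMk W.unop.hom : W.unop ⟶ Over.mk (𝟙 U)).op
    have he : germM M W.unop.left y h.down ((σ.s i).1 W) =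
        germM M U y hy ((σ.s i).1 (op (Over.mk (𝟙 U)))) := by
      rw [← hs]
      exact M.presheaf.germ_res_apply W.unop.hom y h.down _
    rw [he]
    exact (Submodule.Quotient.mk_eq_zero T).mpr (Submodule.subset_span ⟨i, rfl⟩)
  rw [eq_top_iff]
  intro t _
  obtain ⟨V, hyV, m, rfl⟩ := exists_germM_eq M y t
  let W : X.Opens := U ⊓ V
  have hyW : y ∈ W := ⟨hy, hyV⟩
  have hm : germM M W y hyW (M.presheaf.map (homOfLE inf_le_right).op m) = germM M V y hyV m :=
    M.presheaf.germ_res_apply _ y hyW m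
  rw [← hm, ← Submodule.Quotient.mk_eq_zero]
  exact congr_fun (ConcreteCategory.congr_hom
    (congrArg (fun χ => χ.val.app (op (Over.mk (homOfLE (inf_le_left : W ≤ U))))) h0)
    (M.presheaf.map (homOfLE inf_le_right).op m)) ⟨hyW⟩

/-- A finite type module has, near every point, finitely many sections spanning all stalks. -/
theorem exists_span_germ (M : X.Modules) (hM : CohB1.IsFT M) (x : X) :
    ∃ (U : X.Opens) (_ : x ∈ U) (n : ℕ) (s : Fin n → Γ(M, U)), ∀ y (hy : y ∈ U),
      Submodule.span (X.presheaf.stalk y) (Set.range fun i => germM M U y hy (s i)) = ⊤ := by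
  obtain ⟨σ, hσ⟩ := SheafOfModules.IsFiniteType.exists_localGeneratorsData.{u} (R := X.ringCatSheaf) M
  have hc := (Opens.coversTop_iff (U := σ.X)).mp σ.coversTop
  obtain ⟨i, hi⟩ := Opens.mem_iSup.mp (hc.ge (trivial : x ∈ (⊤ : X.Opens)))
  haveI := (hσ.isFiniteType i).finite
  let e := Finite.equivFin (σ.generators i).I
  refine ⟨σ.X i, hi, _, fun j => ((σ.generators i).s (e.symm j)).1 (op (Over.mk (𝟙 (σ.X i)))), fun y hy => ?_⟩
  rw [← span_germ_over M (σ.X i) (σ.generators i) hy]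
  congr 1
  exact e.symm.surjective.range_comp
    (fun k => germM M (σ.X i) y hy (((σ.generators i).s k).1 (op (Over.mk (𝟙 (σ.X i))))))

theorem mem_finset_inf {ι : Type*} (t : Finset ι) (W : ι → X.Opens) {x : X} (h : ∀ i, x ∈ W i) :
    x ∈ t.inf W := by
  induction t using Finset.cons_induction with
  | empty => simp
  | cons a t ha ih =>
    rw [Finset.inf_cons]
    exact ⟨h a, ih⟩

variable (F G : X.Modules)

theorem evalStalk_injective (hF : CohB1.IsFT F) (x : X) :
    Function.Injective (RefHull.evalStalk F G x) := by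
  rw [injective_iff_map_eq_zero]
  intro θ hθ
  obtain ⟨U₀, hx₀, g, rfl⟩ := TopCat.Presheaf.exists_germ_eq (RefHull.homSh F G).presheaf θ
  rw [RefHull.evalStalk_germ] at hθ
  obtain ⟨U₁, hx₁, n, s, hs⟩ := exists_span_germ F hF x
  have key : ∀ i, ∃ (W : X.Opens) (_ : x ∈ W), W ≤ U₀ ⊓ U₁ ∧ ∀ y (hy : y ∈ W) (h0 : y ∈ U₀) (h1 : y ∈ U₁),
      g.1 ⟨y, h0⟩ (germM F U₁ y h1 (s i)) = 0 := by
    intro i
    obtain ⟨W, hxW, j, m, hm⟩ := RefHull.isLocSect_of_mem g (U₀ ⊓ U₁) (homOfLE inf_le_left)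
      (F.presheaf.map (homOfLE inf_le_right).op (s i)) ⟨x, hx₀, hx₁⟩
    have hmx : G.presheaf.germ W x hxW m = G.presheaf.germ W x hxW 0 := by
      rw [← hm ⟨x, hxW⟩, map_zero, hθ]
      rfl
    obtain ⟨W', hxW', i₁, i₂, hW'⟩ := G.presheaf.germ_eq x hxW hxW m 0 hmx
    refine ⟨W', hxW', i₁.le.trans j.le, fun y hy h0 h1 => ?_⟩
    have e := hm ⟨y, i₁.le hy⟩
    rw [TopCat.Presheaf.germ_res_apply] at e
    refine e.trans ?_
    rw [← G.presheaf.germ_res_apply i₁ y hy m, hW', map_zero, map_zero]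
  choose W hxW hW hzero using key
  obtain ⟨W₀, hW₀⟩ : ∃ W₀ : X.Opens, x ∈ W₀ ∧ W₀ ≤ U₀ ⊓ U₁ ∧ ∀ i, W₀ ≤ W i := by
    refine ⟨(Finset.univ.inf W) ⊓ (U₀ ⊓ U₁), ⟨mem_finset_inf _ _ ‹_›, hx₀, hx₁⟩, inf_le_right,
      fun i => inf_le_left.trans (Finset.inf_le (Finset.mem_univ i))⟩
  obtain ⟨hx, hle, hW₀'⟩ := hW₀
  rw [← TopCat.Presheaf.germ_res_apply (RefHull.homSh F G).presheaf (homOfLE (hle.trans inf_le_left)) x hx g]
  have : (RefHull.homSh F G).presheaf.map (homOfLE (hle.trans inf_le_left)).op g = 0 := by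
    refine Subtype.ext (funext fun y => ?_)
    change g.1 ⟨y.1, _⟩ = 0
    exact LinearMap.ext_on (hs y.1 (hle y.2).2) (by
      rintro _ ⟨i, rfl⟩
      exact hzero i y.1 (hW₀' i y.2) (hle y.2).1 (hle y.2).2)
  rw [this, map_zero]

theorem evalStalk_surjective (hF : CohB1.IsFP F) (x : X) :
    Function.Surjective (RefHull.evalStalk F G x) := by
  intro f
  haveI : SheafOfModules.IsFinitePresentation.{u} F := hF
  haveI : F.IsQuasicoherent := by
    obtain ⟨σ, hσ⟩ := SheafOfModules.IsFinitePresentation.exists_quasicoherentData.{u} F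
    exact σ.isQuasicoherent
  obtain ⟨U, hU, hxU, -⟩ := exists_isAffineOpen_mem_and_subset (show x ∈ (⊤ : X.Opens) from trivial)
  haveI : Module.FinitePresentation Γ(X, U) Γ(F, U) := Props.QFP.finitePresentation_sections_of_isFP F hU
  obtain ⟨n, K, eK, hK⟩ := Module.FinitePresentation.exists_fin Γ(X, U) Γ(F, U)
  let π : (Fin n → Γ(X, U)) →ₗ[Γ(X, U)] Γ(F, U) := eK.symm.toLinearMap ∘ₗ K.mkQ
  have hπ : Function.Surjective π := eK.symm.surjective.comp K.mkQ_surjective
  let s : Fin n → Γ(F, U) := fun i => π (Pi.single i 1)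
  have hπs : ∀ c : Fin n → Γ(X, U), π c = ∑ i, c i • s i := by
    intro c
    conv_lhs => rw [pi_eq_sum_univ' c]
    simp only [map_sum, map_smul, s]
  obtain ⟨r, a, ha⟩ := Submodule.fg_iff_exists_fin_generating_family.mp hK
  -- representatives of the images of the generators
  choose Wn hxWn n' hn' using fun i => exists_germM_eq G x (f (germM F U x hxU (s i)))
  obtain ⟨W₁, hxW₁, hW₁U, hW₁n⟩ : ∃ W₁ : X.Opens, x ∈ W₁ ∧ W₁ ≤ U ∧ ∀ i, W₁ ≤ Wn i := by
    refine ⟨(Finset.univ.inf Wn) ⊓ U, ⟨mem_finset_inf _ _ ‹_›, hxU⟩, inf_le_right,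
      fun i => inf_le_left.trans (Finset.inf_le (Finset.mem_univ i))⟩
  let m : Fin n → Γ(G, W₁) := fun i => res G (hW₁n i) (n' i)
  have hm : ∀ i, germM G W₁ x hxW₁ (m i) = f (germM F U x hxU (s i)) := fun i =>
    (G.presheaf.germ_res_apply _ x hxW₁ _).trans (hn' i)
  let rel : Fin r → Γ(G, W₁) := fun j => ∑ i, rres hW₁U (a j i) • m i
  have hgr : ∀ (j : Fin r) (y : X) (hy : y ∈ W₁), germM G W₁ y hy (rel j) =
      ∑ i, X.presheaf.germ U y (hW₁U hy) (a j i) • germM G W₁ y hy (m i) := by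
    intro j y hy
    change (G.presheaf.germ W₁ y hy) (rel j) = _
    rw [map_sum]
    refine Finset.sum_congr rfl fun i _ => (germM_smul G W₁ y hy _ _).trans ?_
    rw [X.presheaf.germ_res_apply]
  have hgs : ∀ (j : Fin r) (y : X) (hy : y ∈ U),
      ∑ i, X.presheaf.germ U y hy (a j i) • germM F U y hy (s i) = 0 := by
    intro j y hy
    have : π (a j) = 0 := by
      have : a j ∈ K := ha ▸ Submodule.subset_span ⟨j, rfl⟩
      simp [π, (Submodule.Quotient.mk_eq_zero K).mpr this]
    rw [hπs] at this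
    have := congrArg (fun q => (F.presheaf.germ U y hy) q) this
    simp only [map_sum, map_zero] at this
    refine Eq.trans (Finset.sum_congr rfl fun i _ => ?_) this
    exact (germM_smul F U y hy _ _).symm
  have hrel0 : ∀ j, ∃ (W : X.Opens) (_ : x ∈ W) (h : W ≤ W₁), res G h (rel j) = 0 := by
    intro j
    have : G.presheaf.germ W₁ x hxW₁ (rel j) = G.presheaf.germ W₁ x hxW₁ 0 := by
      rw [map_zero]
      refine (hgr j x hxW₁).trans ?_
      simp only [hm, ← map_smul, ← map_sum, hgs j x hxU, map_zero]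
    obtain ⟨W, hxW, i₁, i₂, hW⟩ := G.presheaf.germ_eq x hxW₁ hxW₁ _ _ this
    exact ⟨W, hxW, i₁.le, hW.trans (map_zero _)⟩
  choose Wr hxWr hWr hrel using hrel0
  obtain ⟨W, hxW, hWW₁, hWr'⟩ : ∃ W : X.Opens, x ∈ W ∧ W ≤ W₁ ∧ ∀ j, W ≤ Wr j := by
    refine ⟨(Finset.univ.inf Wr) ⊓ W₁, ⟨mem_finset_inf _ _ ‹_›, hxW₁⟩, inf_le_right,
      fun i => inf_le_left.trans (Finset.inf_le (Finset.mem_univ i))⟩
  have hrelW : ∀ (j : Fin r) (y : X) (hy : y ∈ W),
      ∑ i, X.presheaf.germ U y (hW₁U (hWW₁ hy)) (a j i) • germM G W₁ y (hWW₁ hy) (m i) = 0 := by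
    intro j y hy
    rw [← hgr j y (hWW₁ hy)]
    change G.presheaf.germ W₁ y _ (rel j) = 0
    rw [← G.presheaf.germ_res_apply (homOfLE (hWr j)) y (hWr' j hy) (rel j)]
    exact (congrArg _ (hrel j)).trans (map_zero _)
  -- stalk maps at points of W
  have key : ∀ y : W, ∃ φ : RefHull.StalkHom F G y.1,
      ∀ i, φ (germM F U y.1 (hW₁U (hWW₁ y.2)) (s i)) = germM G W₁ y.1 (hWW₁ y.2) (m i) := by
    rintro ⟨y, hy⟩
    have hyU := hW₁U (hWW₁ hy)
    let P : (Fin n → X.presheaf.stalk y) →ₗ[X.presheaf.stalk y] F.presheaf.stalk y :=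
      Fintype.linearCombination (X.presheaf.stalk y) fun i => germM F U y hyU (s i)
    let Q : (Fin n → X.presheaf.stalk y) →ₗ[X.presheaf.stalk y] G.presheaf.stalk y :=
      Fintype.linearCombination (X.presheaf.stalk y) fun i => germM G W₁ y (hWW₁ hy) (m i)
    letI := Props.QStalk.moduleSections F hyU
    haveI := Props.QStalk.isLocalizedModule_germLin F hyU hU
    let S := (hU.primeIdealOf ⟨y, hyU⟩).asIdeal.primeCompl
    letI := X.presheaf.algebra_section_stalk ⟨y, hyU⟩
    haveI : IsLocalization.AtPrime (X.presheaf.stalk y) (hU.primeIdealOf ⟨y, hyU⟩).asIdeal :=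
      hU.isLocalization_stalk ⟨y, hyU⟩
    have hunit : ∀ d : S, IsUnit (X.presheaf.germ U y hyU (d : Γ(X, U))) := fun d =>
      IsLocalization.map_units (X.presheaf.stalk y) d
    have hPc : ∀ c : Fin n → Γ(X, U), P (fun i => X.presheaf.germ U y hyU (c i)) =
        Props.QStalk.germLin F hyU (π c) := by
      intro c
      rw [hπs, map_sum]
      simp only [P, Fintype.linearCombination_apply]
      exact Finset.sum_congr rfl fun i _ => (germM_smul F U y hyU (c i) (s i)).symm
    have hP : Function.Surjective P := by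
      intro t
      obtain ⟨⟨q, d⟩, hd⟩ := IsLocalizedModule.surj S (Props.QStalk.germLin F hyU) t
      obtain ⟨c, rfl⟩ := hπ q
      obtain ⟨v, hv⟩ := hunit d
      refine ⟨(↑v⁻¹ : X.presheaf.stalk y) • fun i => X.presheaf.germ U y hyU (c i), ?_⟩
      rw [map_smul, hPc, ← hd]
      change _ • (X.presheaf.germ U y hyU (d : Γ(X, U)) • t) = t
      rw [← hv, smul_smul, v.inv_mul, one_smul]
    have hker : LinearMap.ker P ≤ LinearMap.ker Q := by
      intro c hc
      rw [LinearMap.mem_ker] at hc ⊢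
      obtain ⟨b, hb⟩ := IsLocalization.exist_integer_multiples S Finset.univ c
      choose c' hc' using fun i => hb i (Finset.mem_univ i)
      have hcc : (fun i => X.presheaf.germ U y hyU (c' i)) =
          X.presheaf.germ U y hyU (b : Γ(X, U)) • c := funext fun i => (hc' i).trans (Algebra.smul_def _ _)
      have h0 : Props.QStalk.germLin F hyU (π c') = Props.QStalk.germLin F hyU 0 := by
        rw [map_zero, ← hPc, hcc, map_smul, hc, smul_zero]
      obtain ⟨d, hd⟩ := IsLocalizedModule.exists_of_eq (S := S) h0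
      have hmem : (d : Γ(X, U)) • c' ∈ K := by
        rw [← Submodule.Quotient.mk_eq_zero]
        refine eK.symm.injective ?_
        rw [map_zero]
        change π ((d : Γ(X, U)) • c') = 0
        rw [map_smul]
        exact hd.trans (smul_zero _)
      rw [← ha, Submodule.mem_span_range_iff_exists_fun] at hmem
      obtain ⟨e, he⟩ := hmem
      have h1 : Q (fun i => X.presheaf.germ U y hyU (((d : Γ(X, U)) • c') i)) = 0 := by
        rw [← he]
        have : (fun i => X.presheaf.germ U y hyU ((∑ j, e j • a j) i)) =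
            ∑ j, X.presheaf.germ U y hyU (e j) • fun i => X.presheaf.germ U y hyU (a j i) := by
          funext i
          simp [Finset.sum_apply]
        rw [this, map_sum]
        refine Finset.sum_eq_zero fun j _ => ?_
        rw [map_smul]
        simp only [Q, Fintype.linearCombination_apply, hrelW j y hy, smul_zero]
      have h2 : (fun i => X.presheaf.germ U y hyU (((d : Γ(X, U)) • c') i)) =
          (X.presheaf.germ U y hyU (d : Γ(X, U)) * X.presheaf.germ U y hyU (b : Γ(X, U))) • c := by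
        rw [mul_smul, ← hcc]
        funext i
        simp
      rw [h2, map_smul] at h1
      exact ((hunit d).mul (hunit b)).smul_eq_zero.mp h1
    refine ⟨(LinearMap.ker P).liftQ Q hker ∘ₗ (P.quotKerEquivOfSurjective hP).symm.toLinearMap,
      fun i => ?_⟩
    have : germM F U y hyU (s i) = P (Pi.single i 1) := by
      simp [P, Fintype.linearCombination_apply_single]
    rw [this, LinearMap.comp_apply, LinearEquiv.coe_coe]
    have : (P.quotKerEquivOfSurjective hP).symm (P (Pi.single i 1)) = Submodule.Quotient.mk (Pi.single i 1) := by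
      rw [LinearEquiv.symm_apply_eq]
      rfl
    rw [this]
    simp [Q, Fintype.linearCombination_apply_single]
  choose φ hφ using key
  have hspan : ∀ y (hy : y ∈ U), Submodule.span (X.presheaf.stalk y)
      (Set.range fun i => germM F U y hy (s i)) = ⊤ := by
    intro y hy
    rw [eq_top_iff]
    intro t _
    letI := Props.QStalk.moduleSections F hy
    haveI := Props.QStalk.isLocalizedModule_germLin F hy hU
    obtain ⟨⟨q, d⟩, hd⟩ := IsLocalizedModule.surj (hU.primeIdealOf ⟨y, hy⟩).asIdeal.primeCompl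
      (Props.QStalk.germLin F hy) t
    obtain ⟨c, rfl⟩ := hπ q
    letI := X.presheaf.algebra_section_stalk ⟨y, hy⟩
    haveI : IsLocalization.AtPrime (X.presheaf.stalk y) (hU.primeIdealOf ⟨y, hy⟩).asIdeal :=
      hU.isLocalization_stalk ⟨y, hy⟩
    obtain ⟨v, hv⟩ : IsUnit (X.presheaf.germ U y hy (d : Γ(X, U))) :=
      IsLocalization.map_units (X.presheaf.stalk y) d
    have ht : t = (↑v⁻¹ : X.presheaf.stalk y) • Props.QStalk.germLin F hy (π c) := by
      rw [← hd]
      change t = _ • (X.presheaf.germ U y hy (d : Γ(X, U)) • t)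
      rw [← hv, smul_smul, v.inv_mul, one_smul]
    rw [ht, hπs, map_sum]
    refine Submodule.smul_mem _ _ (Submodule.sum_mem _ fun i _ => ?_)
    change germM F U y hy (c i • s i) ∈ _
    rw [germM_smul]
    exact Submodule.smul_mem _ _ (Submodule.subset_span ⟨i, rfl⟩)
  have hloc : RefHull.IsLocSect F G φ := by
    intro V i q y
    have hyU : y.1 ∈ U := hW₁U (hWW₁ (i.le y.2))
    obtain ⟨c, hc⟩ := (Submodule.mem_span_range_iff_exists_fun _).mp
      ((hspan y.1 hyU).ge (show F.presheaf.germ V y.1 y.2 q ∈ ⊤ from trivial))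
    choose Wc hyWc c' hc' using fun k => X.presheaf.exists_germ_eq (x := y.1) (c k)
    obtain ⟨W₃, hy₃, h₃V, h₃c⟩ : ∃ W₃ : X.Opens, y.1 ∈ W₃ ∧ W₃ ≤ V ∧ ∀ k, W₃ ≤ Wc k := by
      refine ⟨(Finset.univ.inf Wc) ⊓ V, ⟨mem_finset_inf _ _ ‹_›, y.2⟩, inf_le_right,
        fun k => inf_le_left.trans (Finset.inf_le (Finset.mem_univ k))⟩
    have h₃W : W₃ ≤ W₁ := (h₃V.trans i.le).trans hWW₁
    have h₃U : W₃ ≤ U := h₃W.trans hW₁U
    let q' : Γ(F, W₃) := ∑ k, rres (h₃c k) (c' k) • res F h₃U (s k)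
    have hq : F.presheaf.germ W₃ y.1 hy₃ (res F h₃V q) = F.presheaf.germ W₃ y.1 hy₃ q' := by
      rw [F.presheaf.germ_res_apply, ← hc, map_sum]
      refine Finset.sum_congr rfl fun k _ => ?_
      refine Eq.trans ?_ (germM_smul F W₃ y.1 hy₃ _ _).symm
      rw [X.presheaf.germ_res_apply, hc' k]
      exact congrArg _ (F.presheaf.germ_res_apply _ _ _ _).symm
    obtain ⟨W₄, hy₄, i₁, i₂, h₄⟩ := F.presheaf.germ_eq y.1 hy₃ hy₃ _ _ hq
    let n₀ : Γ(G, W₃) := ∑ k, rres (h₃c k) (c' k) • res G h₃W (m k)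
    refine ⟨W₄, hy₄, i₁ ≫ homOfLE h₃V, G.presheaf.map i₁.op n₀, fun z => ?_⟩
    have e1 : F.presheaf.germ V z.1 ((i₁ ≫ homOfLE h₃V).le z.2) q = F.presheaf.germ W₃ z.1 (i₁.le z.2) q' := by
      rw [← F.presheaf.germ_res_apply (homOfLE h₃V) z.1 (i₁.le z.2) q,
        ← F.presheaf.germ_res_apply i₁ z.1 z.2 (res F h₃V q), h₄, F.presheaf.germ_res_apply]
    rw [e1, G.presheaf.germ_res_apply, map_sum, map_sum, map_sum]
    refine Finset.sum_congr rfl fun k _ => ?_
    refine (congrArg _ (germM_smul F W₃ z.1 (i₁.le z.2) _ _)).trans ?_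
    rw [map_smul]
    refine Eq.trans ?_ (germM_smul G W₃ z.1 (i₁.le z.2) _ _).symm
    congr 1
    refine (congrArg _ (F.presheaf.germ_res_apply _ _ _ _)).trans ?_
    refine (hφ ⟨z.1, i.le ((i₁ ≫ homOfLE h₃V).le z.2)⟩ k).trans ?_
    exact (G.presheaf.germ_res_apply _ _ _ _).symm
  refine ⟨(RefHull.homSh F G).presheaf.germ W x hxW ⟨φ, hloc⟩, ?_⟩
  refine (RefHull.evalStalk_germ F G x hxW _).trans ?_
  refine LinearMap.ext_on (hspan x hxU) ?_
  rintro _ ⟨k, rfl⟩
  exact (hφ ⟨x, hxW⟩ k).trans ((G.presheaf.germ_res_apply _ _ _ _).trans (hn' k))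

end Groth.Agent.HomShEval
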